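import Cfsg.Agent.H841.PB.FourTr
import Cfsg.Agent.H870.IMFiTwentyThree
import Cfsg.Agent.H163.PG.Fi23
import Cfsg.Agent.H393.Iso.Fi23
import Cfsg.Agent.H713.Spor.Fi23
import Cfsg.Agent.H661.SporCount

/-!
# Facts about `Fi₂₃` for the row of S4826 (helper841)

* `card_cent_17` : the elements of order 17 are self-centralizing;
* `fx_eleven` : an element commuting with an element `x` of order 11 fixes the two transpositions commuting with `x`;
* `not_dvd_seven` : the involutions which invert an element of order 17 commute with no element of order 7.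
-/

set_option autoImplicit false
set_option linter.constructorNameAsVariable false
set_option maxRecDepth 10000

namespace Cfsg.Agent.H841.PB.FiTwentyThree

open Cfsg Cfsg.Spor Cfsg.Agent.Fischer Cfsg.Agent.Fischer.Abstract Cfsg.Agent.R08.FiTwentyThree
open Cfsg.Agent.Fischer.Fi23Class (K)
open Cfsg.Agent.Fischer.Fi23Z (z0)
open Cfsg.Agent.H163.PG.FiTT Subgroup
open Cfsg.Agent.KFacts.FiTTh.Cent (W2 W3 Ds2 Ds3)
open Cfsg.Spor.Fi23 (Gen)

theorem fi23_card : Nat.card Fi23 = 4089470473293004800 := LThreeFi23.card_G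

theorem hac' : (PresentedGroup.of Gen.c : Fi23) ≠ PresentedGroup.of Gen.a := CTwoTab.Fi23.hac

/-! ### Conjugation -/

theorem cj_comm {G : Type*} [Group G] {x y c : G} (h : x * y = y * x) :
    (c⁻¹ * x * c) * (c⁻¹ * y * c) = (c⁻¹ * y * c) * (c⁻¹ * x * c) := by
  calc (c⁻¹ * x * c) * (c⁻¹ * y * c) = c⁻¹ * (x * y) * c := by group
    _ = (c⁻¹ * y * c) * (c⁻¹ * x * c) := by rw [h]; group

theorem cj_comm' {G : Type*} [Group G] {x d c : G} (h : (c⁻¹ * x * c) * d = d * (c⁻¹ * x * c)) :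
    x * (c * d * c⁻¹) = (c * d * c⁻¹) * x := by
  calc x * (c * d * c⁻¹) = c * ((c⁻¹ * x * c) * d) * c⁻¹ := by group
    _ = (c * d * c⁻¹) * x := by rw [h]; group

theorem orderOf_cj {G : Type*} [Group G] (x c : G) : orderOf (c⁻¹ * x * c) = orderOf x := by
  have h := orderOf_injective (MulAut.conj c⁻¹).toMonoidHom (MulAut.conj c⁻¹).injective x
  rw [← h]
  congr 1
  change _ = c⁻¹ * x * c⁻¹⁻¹
  rw [inv_inv]

/-! ### Order 11 -/

theorem ncard_eleven {x : Fi23} (hx : orderOf x = 11) : (Fx x).ncard = 2 := by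
  have hmod := fx_modEq (r := 11) (by norm_num) (x := x) (by rw [← hx, pow_orderOf_eq_one])
  have hle := fx_le hx
  unfold Nat.ModEq at hmod
  omega

theorem gen_c_mem : (Fi23Hom.gen Gen.c : Fi23) ∈ D := gen_mem_D .c

/-- the involutions commuting with an element of order 11 -/
theorem inv_eleven {x u : Fi23} (hx : orderOf x = 11) (hu : u * u = 1) (hu1 : u ≠ 1) (hux : x * u = u * x) :
    u ∈ Fx x ∨ ∃ d ∈ Fx x, ∃ e ∈ Fx x, d ≠ e ∧ d * e = e * d ∧ u = d * e := by
  have := finite_fi23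
  rcases KFacts.FiTTh.Has.inv u hu hu1 with h | h | h
  · left
    exact ⟨h.symm, hux⟩
  · right
    obtain ⟨c, hc⟩ := isConj_iff.1 h.symm
    have h1 : (c⁻¹ * x * c) * W2 = W2 * (c⁻¹ * x * c) := by
      have h2 := cj_comm (c := c) hux
      have h3 : c⁻¹ * u * c = W2 := by rw [← hc]; unfold W2; group
      rwa [h3] at h2
    have h2 := H393.Iso.comm_of_small (p := 11) (by norm_num) (Z := Ds2) (Set.toFinite _)
      (by rw [orderOf_cj]; exact hx) (fun z hz => CTwoTab.Fi23.perm2 h1 hz) (by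
        have h3 := Set.ncard_insert_le z0 ({Fi23Hom.gen .a} : Set Fi23)
        rw [Set.ncard_singleton] at h3
        exact lt_of_le_of_lt h3 (by norm_num))
    refine ⟨c * z0 * c⁻¹, ⟨conj_mem_D z0_mem_D c, cj_comm' (h2 z0 (Or.inl rfl))⟩, c * Fi23Hom.gen .a * c⁻¹,
      ⟨conj_mem_D (gen_mem_D .a) c, cj_comm' (h2 _ (Or.inr rfl))⟩, ?_, ?_, ?_⟩
    · intro h3
      exact KFacts.FiTTh.Cent.ne_gen_a (mul_left_cancel (mul_right_cancel h3)).symm
    · have h3 : (Fi23Hom.gen .a : Fi23) * z0 = z0 * Fi23Hom.gen .a := KFacts.FiTTh.Cent.z_gen .a (by decide)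
      calc c * z0 * c⁻¹ * (c * Fi23Hom.gen .a * c⁻¹) = c * (z0 * Fi23Hom.gen .a) * c⁻¹ := by group
        _ = c * Fi23Hom.gen .a * c⁻¹ * (c * z0 * c⁻¹) := by rw [← h3]; group
    · rw [← hc]; group
  · exfalso
    obtain ⟨c, hc⟩ := isConj_iff.1 h.symm
    have h1 : (c⁻¹ * x * c) * W3 = W3 * (c⁻¹ * x * c) := by
      have h2 := cj_comm (c := c) hux
      have h3 : c⁻¹ * u * c = W3 := by rw [← hc]; unfold W3; group
      rwa [h3] at h2
    have h2 := H393.Iso.comm_of_small (p := 11) (by norm_num) (Z := Ds3) (Set.toFinite _)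
      (by rw [orderOf_cj]; exact hx) (fun z hz => CTwoTab.Fi23.perm3 CTwoTab.Fi23.hac h1 hz) (by
        have h1 := Set.ncard_insert_le z0 ({Fi23Hom.gen .a, Fi23Hom.gen .c} : Set Fi23)
        have h2 := Set.ncard_insert_le (Fi23Hom.gen .a) ({Fi23Hom.gen .c} : Set Fi23)
        rw [Set.ncard_singleton] at h2
        exact lt_of_le_of_lt h1 (by omega))
    have h3 : (c * z0 * c⁻¹) ∈ Fx x := ⟨conj_mem_D z0_mem_D c, cj_comm' (h2 z0 (Or.inl rfl))⟩
    have h4 : (c * Fi23Hom.gen .a * c⁻¹) ∈ Fx x := ⟨conj_mem_D (gen_mem_D .a) c, cj_comm' (h2 _ (Or.inr (Or.inl rfl)))⟩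
    have h5 : (c * Fi23Hom.gen .c * c⁻¹) ∈ Fx x := ⟨conj_mem_D (gen_mem_D .c) c, cj_comm' (h2 _ (Or.inr (Or.inr rfl)))⟩
    have h6 : 2 < (Fx x).ncard := by
      rw [Set.two_lt_ncard_iff (finite_set _)]
      refine ⟨_, _, _, h3, h4, h5, ?_, ?_, ?_⟩
      · intro h3
        exact KFacts.FiTTh.Cent.ne_gen_a (mul_left_cancel (mul_right_cancel h3)).symm
      · intro h3
        exact KFacts.FiTTh.Cent.ne_gen_c (mul_left_cancel (mul_right_cancel h3)).symm
      · intro h3
        exact CTwoTab.Fi23.hac (mul_left_cancel (mul_right_cancel h3)).symm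
    rw [ncard_eleven hx] at h6
    exact absurd h6 (by norm_num)

/-- the 2-elements of order at most 4 commuting with an element of order 11 and `z0` -/
theorem four_z0 {x s : Fi23} (hx : orderOf x = 11) (hxz : x * z0 = z0 * x) (hsx : x * s = s * x) (hsz : s * z0 = z0 * s)
    (hs : s ^ 4 = 1) : s * s = 1 ∨ s * s = z0 := by
  have hfin := finite_fi23
  obtain ⟨k, hk, hk11⟩ := exists_pi (r := 11) (by norm_num) (by norm_num) hx hxz
  let l : K := ⟨s, (mem_K_iff s).2 hsz⟩
  have hkl : pi l * pi k = pi k * pi l := by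
    rw [← map_mul, ← map_mul]
    congr 1
    apply Subtype.ext
    show s * (k : Fi23) = k * s
    rw [hk]
    exact hsx.symm
  have hfin22 : Finite Fi22 := ctx22.finite
  have h1 : orderOf (pi l) ∣ 22 := by
    rw [← H713.Spor.Fi22.cent_11 (MulEquiv.refl Fi22) hk11,
      ← Subgroup.orderOf_mk (pi l) (mem_centralizer_singleton_iff.2 hkl)]
    exact orderOf_dvd_natCard _
  have h2 : orderOf (pi l) ∣ 4 := orderOf_dvd_of_pow_eq_one (by
    rw [← map_pow]
    have : l ^ 4 = 1 := Subtype.ext (by rw [Subgroup.coe_pow]; exact hs)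
    rw [this, map_one])
  have h3 : orderOf (pi l) ∣ 2 := by
    have := Nat.dvd_gcd h1 h2
    norm_num at this
    exact this
  have h4 : pi (l * l) = 1 := by
    rw [map_mul, ← pow_two]
    exact orderOf_dvd_iff_pow_eq_one.1 h3
  rcases (pi_ker _).1 h4 with h5 | h5
  · left
    exact congrArg Subtype.val h5
  · right
    exact congrArg Subtype.val h5

theorem four_d {x s d : Fi23} (hx : orderOf x = 11) (hd : d ∈ Fx x) (hsx : x * s = s * x) (hsd : s * d = d * s)
    (hs : s ^ 4 = 1) : s * s = 1 ∨ s * s = d := by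
  obtain ⟨c, hc⟩ := isConj_iff.1 (show IsConj z0 d from hd.1)
  have h0 : c⁻¹ * d * c = z0 := by rw [← hc]; group
  have h1 := cj_comm (c := c) hd.2
  rw [h0] at h1
  have h2 := cj_comm (c := c) hsd
  rw [h0] at h2
  have h3 : (c⁻¹ * s * c) ^ 4 = 1 := by
    have e : c⁻¹ * s * c = c⁻¹ * s * c⁻¹⁻¹ := by rw [inv_inv]
    rw [e, conj_pow, hs]
    group
  rcases four_z0 (by rw [orderOf_cj]; exact hx) h1 (cj_comm (c := c) hsx) h2 h3 with h | h
  · left
    calc s * s = c * (c⁻¹ * s * c * (c⁻¹ * s * c)) * c⁻¹ := by group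
      _ = 1 := by rw [h]; group
  · right
    calc s * s = c * (c⁻¹ * s * c * (c⁻¹ * s * c)) * c⁻¹ := by group
      _ = d := by rw [h, hc]

/-- **an element commuting with an element `x` of order 11 fixes the transpositions commuting with `x`** -/
theorem fx_eleven {x g d : Fi23} (hx : orderOf x = 11) (hg : x * g = g * x) (hd : d ∈ Fx x) : g * d = d * g := by
  have hfin := finite_fi23
  by_contra hcon
  -- the other transposition
  have hswap : ∀ t : Fi23, x * t = t * x → t * d ≠ d * t → ∃ e ∈ Fx x, e ≠ d ∧ t * d * t⁻¹ = e ∧ t * e * t⁻¹ = d := by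
    intro t ht htd
    have he : t * d * t⁻¹ ∈ Fx x := fx_conj ht hd
    have hne : t * d * t⁻¹ ≠ d := fun h => htd (by rw [mul_inv_eq_iff_eq_mul] at h; exact h)
    have he2 : t * (t * d * t⁻¹) * t⁻¹ ∈ Fx x := fx_conj ht he
    refine ⟨_, he, hne, rfl, ?_⟩
    by_contra h3
    have h4 : t * (t * d * t⁻¹) * t⁻¹ ≠ t * d * t⁻¹ := fun h => hne (mul_left_cancel (mul_right_cancel h))
    have h6 : 2 < (Fx x).ncard := by
      rw [Set.two_lt_ncard_iff (finite_set _)]
      exact ⟨_, _, _, he2, he, hd, h4, h3, hne⟩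
    rw [ncard_eleven hx] at h6
    exact absurd h6 (by norm_num)
  have honly : ∀ e ∈ Fx x, e ≠ d → ∀ f ∈ Fx x, f = d ∨ f = e := by
    intro e he hne f hf
    by_contra h3
    push Not at h3
    have h6 : 2 < (Fx x).ncard := by
      rw [Set.two_lt_ncard_iff (finite_set _)]
      exact ⟨_, _, _, hf, he, hd, h3.2, h3.1, hne⟩
    rw [ncard_eleven hx] at h6
    exact absurd h6 (by norm_num)
  -- a 2-element which moves `d`
  obtain ⟨k, m, hm, hkm⟩ := Nat.exists_eq_two_pow_mul_odd (orderOf_pos g).ne'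
  obtain ⟨t, ht⟩ : ∃ t, t = g ^ m := ⟨_, rfl⟩
  have htx : x * t = t * x := by rw [ht]; exact (Commute.pow_right hg m).eq
  have htd : t * d ≠ d * t := by
    intro h1
    obtain ⟨e, he, hne, h2, h3⟩ := hswap g hg hcon
    -- `g ^ 2` commutes with `d`
    have h4 : Commute (g ^ 2) d := by
      show g ^ 2 * d = d * g ^ 2
      calc g ^ 2 * d = g * (g * d * g⁻¹) * g⁻¹ * (g * g) := by rw [pow_two]; group
        _ = d * g ^ 2 := by rw [h2, h3, pow_two]
    obtain ⟨n, rfl⟩ := hm
    have h5 : Commute (g ^ (2 * n + 1)) d := by rw [← ht]; exact h1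
    have h6 : g = g ^ (2 * n + 1) * ((g ^ 2) ^ n)⁻¹ := by
      rw [pow_succ', pow_mul]; group
    apply hcon
    have h7 : Commute g d := by
      rw [h6]
      exact h5.mul_left (h4.pow_left n).inv_left
    exact h7.eq
  have hto : t ^ 2 ^ k = 1 := by
    rw [ht, ← pow_mul, mul_comm, ← hkm, pow_orderOf_eq_one]
  obtain ⟨e, he, hne, hte, hte2⟩ := hswap t htx htd
  have hdd : d * d = 1 := sq_D hd.1
  have hee : e * e = 1 := sq_D he.1
  have honly' := honly e he hne
  -- an involution commuting with `x` and `t` is `d * e`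
  have hinv : ∀ u : Fi23, u * u = 1 → u ≠ 1 → x * u = u * x → (u = d ∨ u = e ∨ u = d * e) ∧ d * e = e * d ∨
      (u = d ∨ u = e) := by
    intro u hu hu1 hux
    rcases inv_eleven hx hu hu1 hux with h | ⟨d', hd', e', he', hne', hcm, hu2⟩
    · right
      exact honly' u h
    · left
      rcases honly' d' hd' with h1 | h1 <;> rcases honly' e' he' with h2 | h2
      · exact absurd (h1.trans h2.symm) hne'
      · rw [h1, h2] at hcm hu2
        exact ⟨Or.inr (Or.inr hu2), hcm⟩
      · rw [h1, h2] at hcm hu2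
        exact ⟨Or.inr (Or.inr (by rw [hu2, hcm])), hcm.symm⟩
      · exact absurd (h1.trans h2.symm) hne'
  -- the order of `t`
  have hd_t : t * d * t⁻¹ ≠ d := by rw [hte]; exact hne
  have he_t : t * e * t⁻¹ ≠ e := by rw [hte2]; exact hne.symm
  rcases k with _ | k
  · rw [pow_zero, pow_one] at hto
    rw [hto] at htd
    exact htd (by group)
  -- find the first `j` with `t ^ 2 ^ (j + 1) = 1`
  obtain ⟨j, hj1, hj2⟩ : ∃ j : ℕ, t ^ 2 ^ (j + 1) = 1 ∧ t ^ 2 ^ j ≠ 1 := by
    have hex : ∃ n : ℕ, t ^ 2 ^ n = 1 := ⟨_, hto⟩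
    classical
    have h1 := Nat.find_spec hex
    rcases hn : Nat.find hex with _ | n
    · rw [hn, pow_zero, pow_one] at h1
      exfalso
      rw [h1] at htd
      exact htd (by group)
    · refine ⟨n, by rwa [hn] at h1, fun h2 => ?_⟩
      exact Nat.find_min hex (m := n) (by rw [hn]; exact Nat.lt_succ_self n) h2
  have huu : t ^ 2 ^ j * t ^ 2 ^ j = 1 := by
    rw [← pow_add, ← two_mul, ← pow_succ']; exact hj1
  have hux : x * t ^ 2 ^ j = t ^ 2 ^ j * x := (Commute.pow_right htx _).eq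
  have hut : t * t ^ 2 ^ j * t⁻¹ = t ^ 2 ^ j := by group
  have hu := hinv _ huu hj2 hux
  have hude : t ^ 2 ^ j = d * e ∧ d * e = e * d := by
    rcases hu with ⟨h1 | h1 | h1, h2⟩ | h1 | h1
    · rw [h1] at hut; exact absurd hut hd_t
    · rw [h1] at hut; exact absurd hut he_t
    · exact ⟨h1, h2⟩
    · rw [h1] at hut; exact absurd hut hd_t
    · rw [h1] at hut; exact absurd hut he_t
  obtain ⟨hude, hde⟩ := hude
  rcases j with _ | _ | j
  · -- `t = d * e`
    rw [pow_zero, pow_one] at hude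
    apply htd
    rw [hude]
    rw [mul_assoc, hde]
  · -- `t ^ 2 = d * e`
    rw [zero_add, pow_one] at hude
    have h1 : t * d ≠ 1 := by
      intro h1
      apply htd
      rw [eq_inv_of_mul_eq_one_left h1]
      group
    have h2 : (t * d) * (t * d) = 1 := by
      have h3 : t * d = e * t := by rw [← hte]; group
      calc (t * d) * (t * d) = t * (d * t) * d := by group
        _ = (t * t) * e * d := by
            have h4 : d * t = t * e := by rw [← hte2]; group
            rw [h4]; group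
        _ = d * e * e * d := by rw [← pow_two, hude]
        _ = 1 := by rw [mul_assoc d e e, hee, mul_one, hdd]
    have h3 : x * (t * d) = (t * d) * x := (Commute.mul_right htx hd.2).eq
    have h4 := hinv _ h2 h1 h3
    have h5 : t * d = d ∨ t * d = e ∨ t * d = d * e := by
      rcases h4 with ⟨h4, -⟩ | h4 | h4
      · exact h4
      · exact Or.inl h4
      · exact Or.inr (Or.inl h4)
    rcases h5 with h5 | h5 | h5
    · have h6 : t = 1 := by
        have : t * d = 1 * d := by rw [h5, one_mul]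
        exact mul_right_cancel this
      apply htd
      rw [h6]; group
    · apply htd
      have h6 : t = e * d := by rw [← h5, mul_assoc, hdd, mul_one]
      rw [h6]
      calc e * d * d = e * (d * d) := by group
        _ = (d * d) * e := by rw [hdd]; group
        _ = d * (e * d) := by rw [mul_assoc, hde]
    · apply htd
      have h6 : t = d * e * d := by rw [← h5, mul_assoc, hdd, mul_one]
      rw [hde, mul_assoc, hdd, mul_one] at h6
      rw [h6, hde]
  · -- an element of order 4 which fixes `d`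
    have hs : Commute (t ^ 2 ^ (j + 1)) d := by
      have h4 : Commute (t ^ 2) d := by
        show t ^ 2 * d = d * t ^ 2
        calc t ^ 2 * d = t * (t * d * t⁻¹) * t⁻¹ * (t * t) := by rw [pow_two]; group
          _ = d * t ^ 2 := by rw [hte, hte2, pow_two]
      rw [pow_succ', pow_mul]
      exact h4.pow_left _
    have hsx : x * t ^ 2 ^ (j + 1) = t ^ 2 ^ (j + 1) * x := (Commute.pow_right htx _).eq
    have h4 : (t ^ 2 ^ (j + 1)) ^ 4 = 1 := by
      rw [← pow_mul]
      have : 2 ^ (j + 1) * 4 = 2 ^ (j + 1 + 1 + 1) := by rw [pow_succ, pow_succ (2 : ℕ) (j + 1 + 1), pow_succ (2 : ℕ) (j + 1)]; ring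
      rw [this]
      exact hj1
    have h5 : t ^ 2 ^ (j + 1) * t ^ 2 ^ (j + 1) = t ^ 2 ^ (j + 1 + 1) := by
      rw [← pow_add, ← two_mul, ← pow_succ']
    rcases four_d hx hd hsx hs.eq h4 with h6 | h6
    · rw [h5] at h6
      exact hj2 h6
    · rw [h5, hude] at h6
      have h7 : e = 1 := by
        have : d * e = d * 1 := by rw [h6, mul_one]
        exact mul_left_cancel this
      exact ne_one_D he.1 h7

/-- the number of the transpositions commuting with an element of order divisible by 11 -/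
theorem ncard_of_eleven {g : Fi23} (hg : 11 ∣ orderOf g) : (Fx g).ncard = 2 := by
  have hfin := finite_fi23
  obtain ⟨m, hm⟩ := hg
  have hm0 : m ≠ 0 := by
    rintro rfl
    rw [mul_zero] at hm
    exact (orderOf_pos g).ne' hm
  have hx : orderOf (g ^ m) = 11 := by
    rw [orderOf_pow_of_dvd hm0 ⟨11, by rw [hm, mul_comm]⟩, hm]
    exact Nat.mul_div_cancel _ (Nat.pos_of_ne_zero hm0)
  have hcomm : g ^ m * g = g * g ^ m := (Commute.pow_self g m).eq
  rw [← ncard_eleven hx]
  congr 1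
  ext d
  constructor
  · rintro ⟨h1, h2⟩
    exact ⟨h1, (Commute.pow_left h2 m).eq⟩
  · intro h
    exact ⟨h.1, fx_eleven hx hcomm h⟩

/-! ### Order 17 -/

theorem not_sq {p : ℕ} (hp : p = 7 ∨ p = 11 ∨ p = 13 ∨ p = 17 ∨ p = 23) : ¬ p ^ 2 ∣ Nat.card Fi23 := by
  rw [fi23_card]
  rcases hp with rfl | rfl | rfl | rfl | rfl <;> norm_num

theorem card_of_surj {G : Type*} [Group G] {p n : ℕ} {A : Subgroup G} (f : A →* Equiv.Perm (Fin n))
    (hf : Function.Surjective f) (hk : Nat.card f.ker = p) : Nat.card A = n.factorial * p := by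
  rw [← f.ker.index_mul_card, Subgroup.index_ker, MonoidHom.range_eq_top.2 hf, hk, Subgroup.card_top]
  congr 1
  rw [Nat.card_eq_fintype_card, Fintype.card_perm, Fintype.card_fin]

theorem card_cent_five {x : Fi23} (hx : orderOf x = 5) : Nat.card (centralizer ({x} : Set Fi23)) = 5040 * 5 := by
  obtain ⟨f, hf, hk⟩ := H870.IMFi23.exists_surj_elt hx (H838.Fi23.five_main (zpowers x) (by rw [Nat.card_zpowers, hx]))
  exact card_of_surj f hf hk

theorem card_cent_seven {x : Fi23} (hx : orderOf x = 7) : Nat.card (centralizer ({x} : Set Fi23)) = 120 * 7 := by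
  obtain ⟨f, hf, hk⟩ := H870.IMFi23.exists_surj_elt hx (H839.Fi23.seven_main (zpowers x) (by rw [Nat.card_zpowers, hx]))
  exact card_of_surj f hf hk

theorem dvd_of_comm {G : Type*} [Group G] [Finite G] {x y : G} {p : ℕ} (hx : orderOf x = p) (hxy : x * y = y * x) :
    p ∣ Nat.card (centralizer ({y} : Set G)) := by
  rw [← hx, ← Subgroup.orderOf_mk x (mem_centralizer_singleton_iff.2 hxy)]
  exact orderOf_dvd_natCard _

theorem cent_zp {G : Type*} [Group G] (x : G) : centralizer ((zpowers x : Subgroup G) : Set G) = centralizer ({x} : Set G) := by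
  ext g
  rw [mem_centralizer_singleton_iff]
  constructor
  · intro h
    exact (mem_centralizer_iff.1 h x (mem_zpowers x)).symm
  · intro h
    rw [mem_centralizer_iff]
    rintro _ ⟨i, rfl⟩
    exact (Commute.zpow_left (show Commute x g from h.symm) i).eq

/-- the primes dividing the order of the centralizer -/
theorem prime_seventeen {x y : Fi23} (hx : orderOf x = 17) {s : ℕ} (hs : s.Prime) (hy : orderOf y = s)
    (hxy : x * y = y * x) : s = 17 ∨ s = 23 := by
  have hfin := finite_fi23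
  have hd : s ∣ Nat.card Fi23 := by rw [← hy]; exact orderOf_dvd_natCard y
  rw [fi23_card] at hd
  rcases Nat.lt_or_ge s 5 with h5 | h5
  · exfalso
    have : s = 2 ∨ s = 3 := by
      have := hs.two_le
      have h4 : s ≠ 4 := by rintro rfl; norm_num at hs
      omega
    rcases this with rfl | rfl
    · exact H713.Spor.Fi23.not_dvd (p := 17) (by norm_num) (by norm_num) (by norm_num) (by norm_num) y hy
        (dvd_of_comm hx hxy)
    · obtain ⟨g, i, hg⟩ := LThreeFi23.conj_seventeen (y := x) (by rw [← hx, pow_orderOf_eq_one])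
      have hx1 : x ≠ 1 := by
        rintro rfl
        rw [orderOf_one] at hx
        norm_num at hx
      have h1 := LThreeFi23.comm_of_conj_zpow (p := 17) (by norm_num) LThreeFi23.pow17 hx1 hxy.symm hg
      have h2 := LThreeFi23.r17 (LThreeFi23.conj_Tel (LThreeFi23.Tel.of_three (by rw [← hy, pow_orderOf_eq_one])) g) h1
      have h3 : y = 1 := by
        calc y = g⁻¹ * (g * y * g⁻¹) * g := by group
          _ = 1 := by rw [h2]; group
      rw [h3, orderOf_one] at hy
      norm_num at hy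
  · rcases LThreeFi23.prime_cases hs h5 hd with rfl | rfl | rfl | rfl | rfl | rfl
    · exfalso
      have h1 := dvd_of_comm hx hxy
      rw [card_cent_five hy] at h1
      revert h1
      norm_num
    · exfalso
      have h1 := dvd_of_comm hx hxy
      rw [card_cent_seven hy] at h1
      revert h1
      norm_num
    · exact (eleven hy (s := 17) (by norm_num) (by norm_num) (by norm_num) hx hxy.symm).elim
    · exact (H163.PG.FiTT.thirteen hy (s := 17) (by norm_num) (by norm_num) (by norm_num) hx hxy.symm).elim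
    · exact Or.inl rfl
    · exact Or.inr rfl

/-- **Elements of order 17 are self-centralizing.** -/
theorem card_cent_17 {x : Fi23} (hx : orderOf x = 17) : Nat.card (centralizer ({x} : Set Fi23)) = 17 := by
  have hfin := finite_fi23
  have f17 : Fact (Nat.Prime 17) := ⟨by norm_num⟩
  set C := centralizer ({x} : Set Fi23) with hC
  have h17 : 17 ∣ Nat.card C := dvd_of_comm hx rfl
  obtain ⟨c, hc⟩ := h17
  have hcd : Nat.card C ∣ Nat.card Fi23 := Subgroup.card_subgroup_dvd_card C
  have hc0 : c ≠ 0 := by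
    rintro rfl
    rw [mul_zero] at hc
    exact Nat.card_pos.ne' hc
  -- the primes dividing `c`
  have hpr : ∀ s : ℕ, s.Prime → s ∣ c → s = 23 := by
    intro s hs hsc
    have := Fact.mk hs
    obtain ⟨y, hy⟩ := exists_prime_orderOf_dvd_card' (G := C) s (hc ▸ Dvd.dvd.mul_left hsc 17)
    have h1 : orderOf (y : Fi23) = s := by rw [Subgroup.orderOf_coe, hy]
    rcases prime_seventeen hx hs h1 (mem_centralizer_singleton_iff.1 y.2).symm with h2 | h2
    · exfalso
      subst h2
      apply not_sq (p := 17) (by norm_num)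
      refine dvd_trans ?_ hcd
      rw [hc, pow_two]
      exact mul_dvd_mul_left 17 hsc
    · exact h2
  have hc2 : c = 1 ∨ c = 23 := by
    have h1 : c ∣ 23 := by
      have h2 : ¬ 23 ^ 2 ∣ c := by
        intro h
        apply not_sq (p := 23) (by norm_num)
        exact h.trans ((Dvd.intro_left 17 hc.symm).trans hcd)
      have h3 : c = 23 ^ c.primeFactorsList.length :=
        Nat.eq_prime_pow_of_unique_prime_dvd hc0 fun {s} hs hsc => hpr s hs hsc
      rw [h3] at h2 ⊢
      have h4 : c.primeFactorsList.length < 2 := by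
        by_contra hcon
        push Not at hcon
        exact h2 (pow_dvd_pow 23 hcon)
      calc 23 ^ c.primeFactorsList.length ∣ 23 ^ 1 := pow_dvd_pow 23 (by omega)
        _ = 23 := pow_one 23
    exact (Nat.dvd_prime (by norm_num)).1 h1
  rcases hc2 with rfl | rfl
  · rw [hc, mul_one]
  -- Sylow's theorem
  exfalso
  have hzp : IsPGroup 17 (zpowers x) := IsPGroup.of_card (n := 1) (by rw [Nat.card_zpowers, hx, pow_one])
  obtain ⟨P, hP⟩ := hzp.exists_le_sylow
  have hPc : Nat.card P = 17 := H661.Spor.card_sylow_eq P (by rw [fi23_card]; norm_num) (not_sq (by norm_num))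
  have hPz : zpowers x = (P : Subgroup Fi23) :=
    Subgroup.eq_of_le_of_card_ge hP (by
      have h1 : Nat.card (P : Subgroup Fi23) = 17 := hPc
      rw [h1, Nat.card_zpowers, hx])
  have hcP : centralizer ((P : Subgroup Fi23) : Set Fi23) = C := by
    rw [← hPz, hC, cent_zp]
  have hCN : centralizer ((P : Subgroup Fi23) : Set Fi23) ≤ normalizer ((P : Subgroup Fi23) : Set Fi23) :=
    Subgroup.centralizer_le_normalizer _
  have he2 := Cfsg.Agent.J2Type.SylowSeven.relIndex_dvd_of_card_prime (P : Subgroup Fi23) (by norm_num) hPc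
  have hn := card_sylow_modEq_one 17 Fi23
  have h3 : Nat.card (Sylow 17 Fi23) = (normalizer ((P : Subgroup Fi23) : Set Fi23)).index :=
    Sylow.card_eq_index_normalizer P
  have h4 : (centralizer ((P : Subgroup Fi23) : Set Fi23)).relIndex (normalizer ((P : Subgroup Fi23) : Set Fi23)) *
      Nat.card (centralizer ((P : Subgroup Fi23) : Set Fi23)) = Nat.card (normalizer ((P : Subgroup Fi23) : Set Fi23)) := by
    rw [mul_comm]
    exact Cfsg.Agent.J2Type.SylowSeven.card_mul_relIndex' hCN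
  have h5 := (normalizer ((P : Subgroup Fi23) : Set Fi23)).card_mul_index
  rw [← h4, ← h3, hcP, hc, fi23_card] at h5
  rw [hcP] at he2
  generalize (C.relIndex (normalizer ((P : Subgroup Fi23) : Set Fi23))) = e at he2 h5
  generalize Nat.card (Sylow 17 Fi23) = n at hn h5
  unfold Nat.ModEq at hn
  have h6 : e = 1 ∨ e = 2 ∨ e = 4 ∨ e = 8 ∨ e = 16 := by
    have h7 : e ∣ 2 ^ 4 := he2
    obtain ⟨i, hi, rfl⟩ := (Nat.dvd_prime_pow Nat.prime_two).1 h7
    interval_cases i <;> simp
  rcases h6 with rfl | rfl | rfl | rfl | rfl <;> omega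

/-! ### Order 7 -/

theorem perm_five : ∀ u : Equiv.Perm (Fin 5), u * u = 1 → ∀ v : Equiv.Perm (Fin 5), v * v = 1 → u * v = v * u →
    ∀ w : Equiv.Perm (Fin 5), w * w = 1 → u * w = w * u → v * w = w * v →
    u = 1 ∨ v = 1 ∨ w = 1 ∨ u * v = 1 ∨ u * w = 1 ∨ v * w = 1 ∨ u * v * w = 1 := by
  decide +kernel

/-- no element of order 7 commutes with `W3` -/
theorem seven_W3 {y : Fi23} (hy : orderOf y = 7) (h : y * W3 = W3 * y) : False := by
  have hfin := finite_fi23
  have h2 := H393.Iso.comm_of_small (p := 7) (by norm_num) (Z := Ds3) (Set.toFinite _) hy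
    (fun z hz => CTwoTab.Fi23.perm3 CTwoTab.Fi23.hac h hz) (by
      have h1 := Set.ncard_insert_le z0 ({Fi23Hom.gen .a, Fi23Hom.gen .c} : Set Fi23)
      have h2 := Set.ncard_insert_le (Fi23Hom.gen .a) ({Fi23Hom.gen .c} : Set Fi23)
      rw [Set.ncard_singleton] at h2
      exact lt_of_le_of_lt h1 (by omega))
  obtain ⟨f, hf, hk⟩ := H870.IMFi23.exists_surj_elt hy (H839.Fi23.seven_main (zpowers y) (by rw [Nat.card_zpowers, hy]))
  have hker : ∀ u : centralizer ({y} : Set Fi23), u * u = 1 → f u = 1 → u = 1 := by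
    intro u hu hfu
    have h3 : orderOf u ∣ 7 := by
      rw [← hk, ← Subgroup.orderOf_mk u (MonoidHom.mem_ker.2 hfu)]
      exact orderOf_dvd_natCard _
    have h4 : orderOf u ∣ 2 := orderOf_dvd_of_pow_eq_one (by rw [pow_two, hu])
    have h5 := Nat.dvd_gcd h3 h4
    norm_num at h5
    exact h5
  have hzz : z0 * z0 = 1 := KFacts.FiTTh.Cent.zz
  have haa : (Fi23Hom.gen Gen.a : Fi23) * Fi23Hom.gen .a = 1 := Fi23Final.gen_sq .a
  have hcc : (Fi23Hom.gen Gen.c : Fi23) * Fi23Hom.gen .c = 1 := Fi23Final.gen_sq .c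
  have hza : z0 * Fi23Hom.gen .a = Fi23Hom.gen .a * z0 := (KFacts.FiTTh.Cent.z_gen .a (by decide)).symm
  have hzc : z0 * Fi23Hom.gen .c = Fi23Hom.gen .c * z0 := (KFacts.FiTTh.Cent.z_gen .c (by decide)).symm
  have hca : (Fi23Hom.gen Gen.a : Fi23) * Fi23Hom.gen .c = Fi23Hom.gen .c * Fi23Hom.gen .a :=
    KFacts.FiTTh.Cent.gen_comm' (by decide)
  let U : centralizer ({y} : Set Fi23) := ⟨z0, mem_centralizer_singleton_iff.2 (h2 z0 (Or.inl rfl)).symm⟩
  let V : centralizer ({y} : Set Fi23) := ⟨Fi23Hom.gen .a, mem_centralizer_singleton_iff.2 (h2 _ (Or.inr (Or.inl rfl))).symm⟩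
  let W : centralizer ({y} : Set Fi23) := ⟨Fi23Hom.gen .c, mem_centralizer_singleton_iff.2 (h2 _ (Or.inr (Or.inr rfl))).symm⟩
  have hU : U * U = 1 := Subtype.ext hzz
  have hV : V * V = 1 := Subtype.ext haa
  have hW : W * W = 1 := Subtype.ext hcc
  have hUV : U * V = V * U := Subtype.ext hza
  have hUW : U * W = W * U := Subtype.ext hzc
  have hVW : V * W = W * V := Subtype.ext hca
  have hUV2 : (U * V) * (U * V) = 1 := by
    calc (U * V) * (U * V) = U * (V * U) * V := by group
      _ = (U * U) * (V * V) := by rw [← hUV]; group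
      _ = 1 := by rw [hU, hV, one_mul]
  have hUW2 : (U * W) * (U * W) = 1 := by
    calc (U * W) * (U * W) = U * (W * U) * W := by group
      _ = (U * U) * (W * W) := by rw [← hUW]; group
      _ = 1 := by rw [hU, hW, one_mul]
  have hVW2 : (V * W) * (V * W) = 1 := by
    calc (V * W) * (V * W) = V * (W * V) * W := by group
      _ = (V * V) * (W * W) := by rw [← hVW]; group
      _ = 1 := by rw [hV, hW, one_mul]
  have hUVW : U * V * W = W * (U * V) := by
    calc U * V * W = U * (V * W) := by group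
      _ = (U * W) * V := by rw [hVW]; group
      _ = W * (U * V) := by rw [hUW]; group
  have hUVW2 : (U * V * W) * (U * V * W) = 1 := by
    calc (U * V * W) * (U * V * W) = (U * V) * (W * (U * V)) * W := by group
      _ = ((U * V) * (U * V)) * (W * W) := by rw [← hUVW]; group
      _ = 1 := by rw [hUV2, hW, one_mul]
  have key := perm_five (f U) (by rw [← map_mul, hU, map_one]) (f V) (by rw [← map_mul, hV, map_one])
    (by rw [← map_mul, ← map_mul, hUV]) (f W) (by rw [← map_mul, hW, map_one]) (by rw [← map_mul, ← map_mul, hUW])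
    (by rw [← map_mul, ← map_mul, hVW])
  simp only [← map_mul] at key
  have hz1 : z0 ≠ 1 := ne_one_D z0_mem_D
  rcases key with k | k | k | k | k | k | k
  · exact hz1 (congrArg Subtype.val (hker _ hU k))
  · exact ne_one_D (gen_mem_D .a) (congrArg Subtype.val (hker _ hV k))
  · exact ne_one_D (gen_mem_D .c) (congrArg Subtype.val (hker _ hW k))
  · have k2 : z0 * Fi23Hom.gen .a = 1 := congrArg Subtype.val (hker _ hUV2 k)
    exact KFacts.FiTTh.Cent.ne_gen_a (mul_left_cancel (a := z0) (k2.trans hzz.symm))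
  · have k2 : z0 * Fi23Hom.gen .c = 1 := congrArg Subtype.val (hker _ hUW2 k)
    exact KFacts.FiTTh.Cent.ne_gen_c (mul_left_cancel (a := z0) (k2.trans hzz.symm))
  · have k2 : (Fi23Hom.gen Gen.a : Fi23) * Fi23Hom.gen .c = 1 := congrArg Subtype.val (hker _ hVW2 k)
    exact CTwoTab.Fi23.hac (mul_left_cancel (a := (Fi23Hom.gen Gen.a : Fi23)) (k2.trans haa.symm))
  · have k2 : z0 * Fi23Hom.gen .a * Fi23Hom.gen .c = 1 := congrArg Subtype.val (hker _ hUVW2 k)
    -- `z0 a = c`, so `13` divides `|C(z0 a)|`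
    have k3 : W2 = Fi23Hom.gen .c := by
      unfold W2
      calc z0 * Fi23Hom.gen .a = z0 * Fi23Hom.gen .a * (Fi23Hom.gen .c * Fi23Hom.gen .c) := by rw [hcc, mul_one]
        _ = Fi23Hom.gen .c := by rw [← mul_assoc, k2, one_mul]
    have k4 : IsConj z0 W2 := by rw [k3]; exact gen_mem_D .c
    have k5 := KFacts.FiTTh.Cent.thirteen
    rw [KFacts.FiTTh.Has.card_cent_of_isConj k4] at k5
    exact KFacts.FiTTh.Cent.c2 k5

/-- **the involutions which invert an element of order 17 commute with no element of order 7** -/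
theorem not_dvd_seven {x t : Fi23} (hx : orderOf x = 17) (ht : orderOf t = 2) (htx : t * x * t⁻¹ = x⁻¹) :
    ¬ 7 ∣ Nat.card (centralizer ({t} : Set Fi23)) := by
  have hfin := finite_fi23
  have ht2 : t * t = 1 := by rw [← pow_two, ← ht, pow_orderOf_eq_one]
  have ht1 : t ≠ 1 := by
    rintro rfl
    rw [orderOf_one] at ht
    norm_num at ht
  have hti : t⁻¹ = t := inv_eq_of_mul_eq_one_left ht2
  -- `x = t * (y⁻¹ * t * y)` with `y = x ^ 9`
  have hx17 : x ^ 17 = 1 := by rw [← hx, pow_orderOf_eq_one]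
  have hy : ∀ n : ℕ, t * x ^ n * t⁻¹ = (x ^ n)⁻¹ := by
    intro n
    rw [← conj_pow, htx, inv_pow]
  have hxt : x = t * ((x ^ 9)⁻¹ * t * x ^ 9) := by
    have h1 : (x ^ 9)⁻¹ * t = t * x ^ 9 := by
      have h2 := hy 9
      rw [← h2]
      group
    rw [h1]
    calc x = 1 * x ^ 17 * x := by rw [hx17]; group
      _ = t * (t * x ^ 9 * x ^ 9) := by
        rw [← ht2]
        group
  have hne : ∀ n : ℕ, n = 6 ∨ n = 60 → x ^ n ≠ 1 := by
    intro n hn h
    have h1 : 17 ∣ n := by rw [← hx]; exact orderOf_dvd_of_pow_eq_one h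
    rcases hn with rfl | rfl <;> omega
  have hCB : ∀ d ∈ D, ∀ d' ∈ D, CB d d' := by
    intro d hd d' hd'
    rcases three_D hd hd' with h | h
    · exact Or.inl h
    · right
      exact LThreeFi23.braid_of_three (sq_D hd) (sq_D hd') h
  rcases KFacts.FiTTh.Has.inv t ht2 ht1 with h | h | h
  · exfalso
    have htD : t ∈ D := h.symm
    have ht'D : (x ^ 9)⁻¹ * t * x ^ 9 ∈ D := by
      have := conj_mem_D htD (x ^ 9)⁻¹
      rwa [inv_inv] at this
    apply hne 6 (Or.inl rfl)
    rw [hxt]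
    exact (hCB _ htD _ ht'D).pow_six (sq_D htD) (sq_D ht'D)
  · exfalso
    obtain ⟨c, hc⟩ := isConj_iff.1 h.symm
    have h1 : (c * z0 * c⁻¹) ∈ D := conj_mem_D z0_mem_D c
    have h2 : (c * Fi23Hom.gen .a * c⁻¹) ∈ D := conj_mem_D (gen_mem_D .a) c
    have h3 := conj_mem_D h1 (x ^ 9)⁻¹
    have h4 := conj_mem_D h2 (x ^ 9)⁻¹
    have hza : z0 * Fi23Hom.gen .a = Fi23Hom.gen .a * z0 := (KFacts.FiTTh.Cent.z_gen .a (by decide)).symm
    have h5 : (c * z0 * c⁻¹) * (c * Fi23Hom.gen .a * c⁻¹) = (c * Fi23Hom.gen .a * c⁻¹) * (c * z0 * c⁻¹) := by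
      calc (c * z0 * c⁻¹) * (c * Fi23Hom.gen .a * c⁻¹) = c * (z0 * Fi23Hom.gen .a) * c⁻¹ := by group
        _ = (c * Fi23Hom.gen .a * c⁻¹) * (c * z0 * c⁻¹) := by rw [hza]; group
    have h6 : ((x ^ 9)⁻¹ * (c * z0 * c⁻¹) * (x ^ 9)⁻¹⁻¹) * ((x ^ 9)⁻¹ * (c * Fi23Hom.gen .a * c⁻¹) * (x ^ 9)⁻¹⁻¹) =
        ((x ^ 9)⁻¹ * (c * Fi23Hom.gen .a * c⁻¹) * (x ^ 9)⁻¹⁻¹) * ((x ^ 9)⁻¹ * (c * z0 * c⁻¹) * (x ^ 9)⁻¹⁻¹) :=
      comm_conj h5
    have h7 := pow_sixty (D := D) (fun d hd => sq_D hd) (fun g d hd => conj_mem_D hd g) hCB h1 h2 h3 h4 h5 h6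
    apply hne 60 (Or.inr rfl)
    have e : x = (c * z0 * c⁻¹) * (c * Fi23Hom.gen .a * c⁻¹) * ((x ^ 9)⁻¹ * (c * z0 * c⁻¹) * (x ^ 9)⁻¹⁻¹) *
        ((x ^ 9)⁻¹ * (c * Fi23Hom.gen .a * c⁻¹) * (x ^ 9)⁻¹⁻¹) := by
      calc x = t * ((x ^ 9)⁻¹ * t * x ^ 9) := hxt
        _ = (c * (z0 * Fi23Hom.gen .a) * c⁻¹) * ((x ^ 9)⁻¹ * (c * (z0 * Fi23Hom.gen .a) * c⁻¹) * x ^ 9) := by rw [hc]
        _ = _ := by group
    rw [e]
    exact h7
  · intro hd
    obtain ⟨c, hc⟩ := isConj_iff.1 h.symm
    have f7 : Fact (Nat.Prime 7) := ⟨by norm_num⟩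
    obtain ⟨y, hy7⟩ := exists_prime_orderOf_dvd_card' 7 hd
    have hy' : orderOf (y : Fi23) = 7 := by rw [Subgroup.orderOf_coe, hy7]
    have hyt := mem_centralizer_singleton_iff.1 y.2
    refine seven_W3 (y := c⁻¹ * (y : Fi23) * c) (by rw [orderOf_cj, hy']) ?_
    have h1 := cj_comm (c := c) hyt
    have h2 : c⁻¹ * t * c = W3 := by rw [← hc]; unfold W3; group
    rwa [h2] at h1

end Cfsg.Agent.H841.PB.FiTwentyThree
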