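import Cfsg.Agent.H841.PB.RankThree
import Cfsg.Agent.H709.PB.Guide
import Cfsg.Agent.H870.IMFiTwentyTwo
import Cfsg.Agent.PreUniqCo.FiTwentyTwo

/-!
# S4826, the row of `Fi₂₂` (helper841)

The rank 3 characters of degrees 429 (real, in the principal 2-block) and 3080 (prime to 13, in the principal 13-block).
-/

set_option autoImplicit false

open Cfsg

namespace Cfsg.Agent.H841.PB.FiTwentyTwo

open Cfsg.Agent.Characters.Core Cfsg.Agent.Blocks.Basic Cfsg.Agent.H690.Spor.RankThree Cfsg.Agent.H133.PB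
open Cfsg.Agent.LThreeFi22

universe u v

theorem arith {f g D : ℕ} (h1 : f + g = 693 + 2816) (h2 : f * g * D = (1 + 693 + 2816) * 693 * 2816)
    (h3 : f ≠ g → ∃ c e : ℤ, (D : ℤ) = c ^ 2 ∧ ((f : ℤ) - g) * c = e * (((693 : ℕ) : ℤ) + (2816 : ℕ)) + 2 * ((693 : ℕ) : ℤ)) :
    (f = 429 ∧ g = 3080) ∨ (f = 3080 ∧ g = 429) := by
  rcases H870.IMFi22.degrees h1 h2 (fun hne => by
    obtain ⟨c, e, h4, -⟩ := h3 hne
    refine ⟨c.natAbs, ?_⟩
    have h5 : ((c.natAbs : ℕ) : ℤ) * (c.natAbs : ℕ) = c ^ 2 := by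
      rw [← pow_two, Int.natCast_natAbs, sq_abs]
    exact_mod_cast h4.trans h5.symm) with h | h
  · exact h
  exfalso
  have key : ∀ f g : ℕ, f = 1430 → g = 2079 → f * g * D = (1 + 693 + 2816) * 693 * 2816 →
      ∀ c e : ℤ, (D : ℤ) = c ^ 2 → (((f : ℤ) - g) * c = e * (((693 : ℕ) : ℤ) + (2816 : ℕ)) + 2 * ((693 : ℕ) : ℤ) ∨
        ((g : ℤ) - f) * c = e * (((693 : ℕ) : ℤ) + (2816 : ℕ)) + 2 * ((693 : ℕ) : ℤ)) → False := by
    intro f g hf hg h c e hc h4
    subst hf hg
    have hD : D = 2304 := by omega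
    rw [hD] at hc
    push_cast at hc h4
    have h5 : (c - 48) * (c + 48) = 0 := by linear_combination -hc
    rcases mul_eq_zero.1 h5 with h6 | h6
    · have h7 : c = 48 := by omega
      subst h7
      omega
    · have h7 : c = -48 := by omega
      subst h7
      omega
  rcases h with ⟨hf, hg⟩ | ⟨hf, hg⟩
  · obtain ⟨c, e, h4, h5⟩ := h3 (by omega)
    exact key f g hf hg h2 c e h4 (Or.inl h5)
  · obtain ⟨c, e, h4, h5⟩ := h3 (by omega)
    exact key g f hg hf (by rw [← h2]; ring) c e h4 (Or.inr h5)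

theorem prime_cases {p : ℕ} (hpr : p.Prime) (h : p ∣ 64561751654400) :
    p = 2 ∨ p = 3 ∨ p = 5 ∨ p = 7 ∨ p = 11 ∨ p = 13 := by
  have h5 : p ∣ 2 ^ 17 * 3 ^ 9 * 5 ^ 2 * 7 * 11 * 13 := by
    norm_num
    exact h
  have two {q : ℕ} (hq : q.Prime) {k : ℕ} (h : p ∣ q ^ k) : p = q :=
    (Nat.prime_dvd_prime_iff_eq hpr hq).1 (hpr.dvd_of_dvd_pow h)
  have one {q : ℕ} (hq : q.Prime) (h : p ∣ q) : p = q := (Nat.prime_dvd_prime_iff_eq hpr hq).1 h
  rcases hpr.dvd_mul.1 h5 with h5 | h5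
  · rcases hpr.dvd_mul.1 h5 with h5 | h5
    · rcases hpr.dvd_mul.1 h5 with h5 | h5
      · rcases hpr.dvd_mul.1 h5 with h5 | h5
        · rcases hpr.dvd_mul.1 h5 with h5 | h5
          · have := two (by norm_num) h5; tauto
          · have := two (by norm_num) h5; tauto
        · have := two (by norm_num) h5; tauto
      · have := one (by norm_num) h5; tauto
    · have := one (by norm_num) h5; tauto
  · have := one (by norm_num) h5; tauto

end Cfsg.Agent.H841.PB.FiTwentyTwo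

namespace Cfsg.Agent.H841.PB

open Cfsg.Agent.Characters.Core Cfsg.Agent.Blocks.Basic Cfsg.Agent.H690.Spor.RankThree Cfsg.Agent.H133.PB
open Cfsg.Agent.LThreeFi22

universe u

/-- **The row of `Fi₂₂`.** -/
theorem row_fi22 {S : Type u} [Group S] (h : Cfsg.Spor.IsoFi22 S) {p : ℕ} (hp : p.Prime) (hd : p ∣ Nat.card S) :
    Row p S := by
  obtain ⟨e⟩ := h
  have C := Inst.ctx e
  let _ := H870.IMFi22.act C
  have := C.finite
  have hR := H870.IMFi22.r3 C
  obtain ⟨χ₁, χ₂, h1, h2, h3, -, -⟩ := rank3_of hR (a := 429) (b := 3080) (by norm_num)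
    (fun f g D h1 h2 h3 => FiTwentyTwo.arith h1 h2 h3)
  have hcard : Nat.card S = 64561751654400 := C.card
  have h13 : Fact (Nat.Prime 13) := ⟨by norm_num⟩
  have real : p ∣ 429 → p ≠ 2 → Row p S := fun h hne =>
    Row.intro Nat.prime_two hne.symm (by rw [hcard]; norm_num)
      (BD.of_real χ₁ h3 (by rw [h1]; decide) (by rwa [h1]))
  have cq : p ∣ 3080 → p ≠ 13 → Row p S := by
    intro hdv hne
    obtain ⟨y, hy⟩ := exists_prime_orderOf_dvd_card' (G := S) 13 (by rw [hcard]; norm_num)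
    have hC : IsPGroup 13 (Subgroup.centralizer ({y} : Set S)) := by
      intro x
      refine ⟨1, Subtype.ext ?_⟩
      rw [pow_one]
      have hx : (x : S) * y = y * x := (Subgroup.mem_centralizer_singleton_iff.1 x.2)
      exact PreUniqCo.FiTwentyTwo.thirteen e hy hx
    obtain ⟨Q, hQ⟩ := isPGroup_centralizer_sylow hC ⟨1, by rw [hy, pow_one]⟩
    exact Row.intro (by norm_num) hne.symm (by rw [hcard]; norm_num)
      (BD.of_sylow Q hQ χ₂ (by rw [h2]; norm_num) (by rwa [h2]))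
  rw [hcard] at hd
  rcases FiTwentyTwo.prime_cases hp hd with rfl | rfl | rfl | rfl | rfl | rfl
  · exact cq (by norm_num) (by norm_num)
  · exact real (by norm_num) (by norm_num)
  · exact cq (by norm_num) (by norm_num)
  · exact cq (by norm_num) (by norm_num)
  · exact real (by norm_num) (by norm_num)
  · exact real (by norm_num) (by norm_num)

end Cfsg.Agent.H841.PB
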