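import Cfsg.Agent.H843.IMC.Frame3
import Cfsg.Agent.H705.RealCount
import Cfsg.Agent.H133.PB.Basic

/-!
# Rank 3 characters for the rows of S4826 (helper841)

`real_pair` : `1 + χ₁ + χ₂` real and the degrees differ: `χ₁`, `χ₂` are real.
`rank3` : Frame's theorem with the integrality of the eigenvalues and the reality of the characters.
`rank3_of` : the degrees are `a`, `b` by arithmetic.
-/

set_option autoImplicit false

open Cfsg

namespace Cfsg.Agent.H841.PB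

open Cfsg.Agent.Characters.Core Cfsg.Agent.Blocks.Basic Cfsg.Agent.H690.Spor.RankThree Cfsg.Agent.H705.RealCount

universe u v

/-- The two constituents of a real character with different degrees are real. -/
theorem real_pair {G : Type u} [Group G] [Finite G] {χ₁ χ₂ : IrrCharacter G} {φ : G → ℂ}
    (hφ : ∀ x, (φ x).im = 0) (h : ∀ x, φ x = (χ₁ : G → ℂ) x + (χ₂ : G → ℂ) x)
    (hne : (χ₁ : G → ℂ) 1 ≠ (χ₂ : G → ℂ) 1) :
    (∀ x, ((χ₁ : G → ℂ) x).im = 0) ∧ ∀ x, ((χ₂ : G → ℂ) x).im = 0 := by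
  have := Fintype.ofFinite G
  have key : ∀ ψ₁ ψ₂ : IrrCharacter G, (∀ x, φ x = (ψ₁ : G → ℂ) x + (ψ₂ : G → ℂ) x) →
      (ψ₁ : G → ℂ) 1 ≠ (ψ₂ : G → ℂ) 1 → ∀ x, ((ψ₁ : G → ℂ) x).im = 0 := by
    intro ψ₁ ψ₂ h hne
    rw [← cj_eq_iff]
    by_contra hcon
    have hcj : ∀ (ψ : IrrCharacter G) (x : G), ((cj ψ : IrrCharacter G) : G → ℂ) x = (starRingEnd ℂ) ((ψ : G → ℂ) x) :=
      fun ψ x => rfl
    have h1 : (ψ₁ : G → ℂ) + (ψ₂ : G → ℂ) = (cj ψ₁ : G → ℂ) + (cj ψ₂ : G → ℂ) := by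
      funext x
      have h2 : (starRingEnd ℂ) (φ x) = φ x := Complex.conj_eq_iff_im.2 (hφ x)
      show (ψ₁ : G → ℂ) x + (ψ₂ : G → ℂ) x = (cj ψ₁ : G → ℂ) x + (cj ψ₂ : G → ℂ) x
      rw [hcj, hcj, ← map_add, ← h x, h2]
    have hreal : ∀ ψ : IrrCharacter G, (cj ψ : G → ℂ) 1 = (ψ : G → ℂ) 1 := by
      intro ψ
      rw [hcj, irr_one_eq_charDegree ψ.2]
      simp
    have h3 : classInner (cj ψ₁ : G → ℂ) ((ψ₁ : G → ℂ) + (ψ₂ : G → ℂ)) = 0 := by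
      rw [classInner_add_right, classInner_irr_ne (cj ψ₁).2 ψ₁.2 (fun h => hcon (Subtype.ext h)),
        classInner_irr_ne (cj ψ₁).2 ψ₂.2 (fun h => hne ?_), add_zero]
      rw [← hreal ψ₁, h]
    rw [h1, classInner_add_right, classInner_irr_self (cj ψ₁).2,
      classInner_irr_ne (cj ψ₁).2 (cj ψ₂).2 (fun h => hne ?_), add_zero] at h3
    · exact one_ne_zero h3
    · rw [← hreal ψ₁, h, hreal ψ₂]
  refine ⟨key χ₁ χ₂ h hne, key χ₂ χ₁ (fun x => ?_) hne.symm⟩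
  rw [h x, add_comm]

/-- **Frame's theorem in rank 3**, with the integrality and the reality. -/
theorem rank3 {G : Type u} {X : Type v} [Group G] [MulAction G X] [Finite G] {R : X → X → Prop} {k l : ℕ}
    (h : R3 G X R k l) : ∃ (χ₁ χ₂ : IrrCharacter G) (f g D : ℕ),
      charDegree (χ₁ : G → ℂ) = f ∧ charDegree (χ₂ : G → ℂ) = g ∧
      (∀ x : G, (Nat.card (MulAction.fixedBy X x) : ℂ) = 1 + (χ₁ : G → ℂ) x + (χ₂ : G → ℂ) x) ∧
      f + g = k + l ∧ f * g * D = (1 + k + l) * k * l ∧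
      (f ≠ g → (∃ c e : ℤ, (D : ℤ) = c ^ 2 ∧ ((f : ℤ) - g) * c = e * (k + l) + 2 * k) ∧
        (∀ x, ((χ₁ : G → ℂ) x).im = 0) ∧ ∀ x, ((χ₂ : G → ℂ) x).im = 0) := by
  classical
  have hX : Finite X := by
    apply Nat.finite_of_card_ne_zero
    rw [h.cardn]
    omega
  have := Fintype.ofFinite X
  obtain ⟨χ₁, χ₂, f, g, D, h1, h2, h3, h4, h5, h6⟩ := H843.IMC.Frame3.frame_int h
  refine ⟨χ₁, χ₂, f, g, D, ?_, ?_, h3, h4, h5, fun hne => ⟨h6 hne, ?_⟩⟩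
  · have := irr_one_eq_charDegree χ₁.2
    rw [h1] at this
    exact_mod_cast this.symm
  · have := irr_one_eq_charDegree χ₂.2
    rw [h2] at this
    exact_mod_cast this.symm
  · refine real_pair (φ := fun x => (Nat.card (MulAction.fixedBy X x) : ℂ) - 1) (fun x => ?_) (fun x => ?_) ?_
    · simp
    · rw [h3 x]
      ring
    · rw [h1, h2]
      exact_mod_cast hne

/-- The degrees are determined by arithmetic. -/
theorem rank3_of {G : Type u} {X : Type v} [Group G] [MulAction G X] [Finite G] {R : X → X → Prop} {k l : ℕ}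
    (h : R3 G X R k l) {a b : ℕ} (hab : a ≠ b)
    (har : ∀ f g D : ℕ, f + g = k + l → f * g * D = (1 + k + l) * k * l →
      (f ≠ g → ∃ c e : ℤ, (D : ℤ) = c ^ 2 ∧ ((f : ℤ) - g) * c = e * (k + l) + 2 * k) →
      (f = a ∧ g = b) ∨ (f = b ∧ g = a)) :
    ∃ χ₁ χ₂ : IrrCharacter G, charDegree (χ₁ : G → ℂ) = a ∧ charDegree (χ₂ : G → ℂ) = b ∧
      (∀ x, ((χ₁ : G → ℂ) x).im = 0) ∧ (∀ x, ((χ₂ : G → ℂ) x).im = 0) ∧
      ∀ x : G, (Nat.card (MulAction.fixedBy X x) : ℂ) = 1 + (χ₁ : G → ℂ) x + (χ₂ : G → ℂ) x := by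
  obtain ⟨χ₁, χ₂, f, g, D, h1, h2, h3, h4, h5, h6⟩ := rank3 h
  rcases har f g D h4 h5 (fun hne => (h6 hne).1) with ⟨rfl, rfl⟩ | ⟨rfl, rfl⟩
  · obtain ⟨-, h7, h8⟩ := h6 hab
    exact ⟨χ₁, χ₂, h1, h2, h7, h8, h3⟩
  · obtain ⟨-, h7, h8⟩ := h6 hab.symm
    exact ⟨χ₂, χ₁, h2, h1, h8, h7, fun x => by rw [h3 x]; ring⟩

end Cfsg.Agent.H841.PB
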