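import Mathlib

/-!
# The product of two products of two commuting 3-transpositions (helper841)

`pow_sixty` : `a, b, e, f` 3-transpositions, `ab = ba`, `ef = fe`: `(abef) ^ 60 = 1`.
-/

set_option autoImplicit false
set_option linter.unusedSimpArgs false

namespace Cfsg.Agent.H841.PB

section

variable {G : Type*} [Group G]

/-- commuting or braiding -/
def CB (a e : G) : Prop := a * e = e * a ∨ a * e * a = e * a * e

theorem CB.symm {a e : G} (h : CB a e) : CB e a := by
  rcases h with h | h
  · exact Or.inl h.symm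
  · exact Or.inr h.symm

theorem CB.pow_six {a e : G} (ha : a * a = 1) (he : e * e = 1) (h : CB a e) : (a * e) ^ 6 = 1 := by
  rcases h with h | h
  · have h1 : (a * e) ^ 2 = 1 := by
      rw [pow_two]
      calc a * e * (a * e) = a * (e * a) * e := by group
        _ = (a * a) * (e * e) := by rw [← h]; group
        _ = 1 := by rw [ha, he, one_mul]
    calc (a * e) ^ 6 = ((a * e) ^ 2) ^ 3 := by rw [← pow_mul]
      _ = 1 := by rw [h1, one_pow]
  · have h1 : (a * e) ^ 3 = 1 := by
      calc (a * e) ^ 3 = (a * e * a) * (e * a * e) := by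
            simp only [pow_succ, pow_zero, one_mul, mul_assoc]
        _ = (a * e * a) * (a * e * a) := by rw [h]
        _ = a * e * (a * a) * e * a := by group
        _ = 1 := by rw [ha, mul_one, mul_assoc a e e, he, mul_one, ha]
    calc (a * e) ^ 6 = ((a * e) ^ 3) ^ 2 := by rw [← pow_mul]
      _ = 1 := by rw [h1, one_pow]

/-- the case of two orthogonal pairs -/
theorem pow_six_of_comm {a b e f : G} (ha : a * a = 1) (hb : b * b = 1) (he : e * e = 1) (hf : f * f = 1)
    (hab : a * b = b * a) (hef : e * f = f * e) (hae : CB a e) (hbf : CB b f) (haf : a * f = f * a)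
    (hbe : b * e = e * b) : (a * b * e * f) ^ 6 = 1 := by
  have hc : Commute (a * e) (b * f) := by
    have h1 : Commute a b := hab
    have h2 : Commute a f := haf
    have h3 : Commute e b := hbe.symm
    have h4 : Commute e f := hef
    exact (h1.mul_right h2).mul_left (h3.mul_right h4)
  have h1 : a * b * e * f = (a * e) * (b * f) := by
    calc a * b * e * f = a * (b * e) * f := by group
      _ = (a * e) * (b * f) := by rw [hbe]; group
  rw [h1, hc.mul_pow, hae.pow_six ha he, hbf.pow_six hb hf, one_mul]

/-- the square of `abef` when `e` commutes with its conjugate, and `f` too -/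
theorem pow_twelve {a b e f E F : G} (ha : a * a = 1) (hb : b * b = 1) (he : e * e = 1) (hf : f * f = 1)
    (hab : a * b = b * a) (hef : e * f = f * e) (hE : E = a * b * e * (b * a)) (hF : F = a * b * f * (b * a))
    (h1 : Commute E e) (h2 : Commute F f) (h3 : CB F e) : (a * b * e * f) ^ 12 = 1 := by
  have hsq : (a * b) * (b * a) = 1 := by
    calc (a * b) * (b * a) = a * (b * b) * a := by group
      _ = 1 := by rw [hb, mul_one, ha]
  have hsq' : (b * a) * (a * b) = 1 := by
    calc (b * a) * (a * b) = b * (a * a) * b := by group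
      _ = 1 := by rw [ha, mul_one, hb]
  have hEF : Commute E F := by
    show E * F = F * E
    rw [hE, hF]
    calc a * b * e * (b * a) * (a * b * f * (b * a)) = a * b * e * ((b * a) * (a * b)) * f * (b * a) := by group
      _ = a * b * (e * f) * (b * a) := by rw [hsq']; group
      _ = a * b * (f * e) * (b * a) := by rw [hef]
      _ = a * b * f * 1 * e * (b * a) := by group
      _ = a * b * f * ((b * a) * (a * b)) * e * (b * a) := by rw [hsq']
      _ = a * b * f * (b * a) * (a * b * e * (b * a)) := by group
  have hEE : E * E = 1 := by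
    rw [hE]
    calc a * b * e * (b * a) * (a * b * e * (b * a)) = a * b * e * ((b * a) * (a * b)) * e * (b * a) := by group
      _ = a * b * (e * e) * (b * a) := by rw [hsq']; group
      _ = 1 := by rw [he, mul_one, hsq]
  have hFF : F * F = 1 := by
    rw [hF]
    calc a * b * f * (b * a) * (a * b * f * (b * a)) = a * b * f * ((b * a) * (a * b)) * f * (b * a) := by group
      _ = a * b * (f * f) * (b * a) := by rw [hsq']; group
      _ = 1 := by rw [hf, mul_one, hsq]
  -- the square
  have hx : (a * b * e * f) ^ 2 = (F * e) * (E * f) := by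
    have h4 : (a * b * e * f) ^ 2 = E * F * (e * f) := by
      rw [hE, hF, pow_two]
      calc a * b * e * f * (a * b * e * f) = a * b * e * 1 * f * (a * b) * (e * f) := by group
        _ = a * b * e * ((b * a) * (a * b)) * f * (b * a) * (e * f) := by rw [hsq', hab]
        _ = a * b * e * (b * a) * (a * b * f * (b * a)) * (e * f) := by group
    rw [h4]
    calc E * F * (e * f) = (E * F) * e * f := by group
      _ = F * (E * e) * f := by rw [hEF.eq]; group
      _ = F * e * (E * f) := by rw [h1.eq]; group
  -- `(E, f)` is conjugate to `(e, F)`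
  have h3' : CB E f := by
    have e1 : (a * b) * e * (b * a) = E := hE.symm
    have e2 : (a * b) * F * (b * a) = f := by
      rw [hF]
      have hab2 : (a * b) * (a * b) = 1 := by rw [hab]; rw [← hab]; nth_rewrite 2 [hab]; exact hsq
      have hab3 : (b * a) * (b * a) = 1 := by rw [← hab]; exact hab2
      calc a * b * (a * b * f * (b * a)) * (b * a) = ((a * b) * (a * b)) * f * ((b * a) * (b * a)) := by group
        _ = f := by rw [hab2, hab3, one_mul, mul_one]
    rcases h3 with h | h
    · left
      have h5 : Commute e F := h.symm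
      calc E * f = (a * b * e * (b * a)) * (a * b * F * (b * a)) := by rw [e1, e2]
        _ = a * b * e * ((b * a) * (a * b)) * F * (b * a) := by group
        _ = a * b * (e * F) * (b * a) := by rw [hsq']; group
        _ = a * b * (F * e) * (b * a) := by rw [h5.eq]
        _ = a * b * F * 1 * e * (b * a) := by group
        _ = a * b * F * ((b * a) * (a * b)) * e * (b * a) := by rw [hsq']
        _ = (a * b * F * (b * a)) * (a * b * e * (b * a)) := by group
        _ = f * E := by rw [e1, e2]
    · right
      calc E * f * E = (a * b * e * (b * a)) * (a * b * F * (b * a)) * (a * b * e * (b * a)) := by rw [e1, e2]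
        _ = a * b * e * ((b * a) * (a * b)) * F * ((b * a) * (a * b)) * e * (b * a) := by group
        _ = a * b * (e * F * e) * (b * a) := by rw [hsq']; group
        _ = a * b * (F * e * F) * (b * a) := by rw [h]
        _ = a * b * F * 1 * e * 1 * F * (b * a) := by group
        _ = a * b * F * ((b * a) * (a * b)) * e * ((b * a) * (a * b)) * F * (b * a) := by rw [hsq']
        _ = (a * b * F * (b * a)) * (a * b * e * (b * a)) * (a * b * F * (b * a)) := by group
        _ = f * E * f := by rw [e1, e2]
  have hcm : Commute (F * e) (E * f) := by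
    have h6 : Commute e f := hef
    exact (hEF.symm.mul_right h2).mul_left (h1.symm.mul_right h6)
  calc (a * b * e * f) ^ 12 = ((a * b * e * f) ^ 2) ^ 6 := by rw [← pow_mul]
    _ = 1 := by rw [hx, hcm.mul_pow, h3.pow_six hFF he, h3'.pow_six hEE hf, one_mul]

/-- the conjugate of `e` commutes with `e` if `e` braids with both `a` and `b` -/
theorem comm_of_braid {a b e : G} (hab : a * b = b * a) (hae : a * e * a = e * a * e) (hbe : b * e * b = e * b * e) :
    Commute (a * b * e * (b * a)) e := by
  show a * b * e * (b * a) * e = e * (a * b * e * (b * a))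
  calc a * b * e * (b * a) * e = a * (b * e * b) * a * e := by group
    _ = a * e * b * (e * a * e) := by rw [hbe]; group
    _ = a * e * (b * a) * e * a := by rw [← hae]; group
    _ = (a * e * a) * b * e * a := by rw [← hab]; group
    _ = e * a * (e * b * e) * a := by rw [hae]; group
    _ = e * (a * b * e * (b * a)) := by rw [← hbe]; group

theorem comm_of_comm {a b e : G} (ha : a * a = 1) (hb : b * b = 1) (hae : a * e = e * a) (hbe : b * e = e * b) :
    Commute (a * b * e * (b * a)) e := by
  have h : a * b * e * (b * a) = e := by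
    calc a * b * e * (b * a) = a * (b * e) * (b * a) := by group
      _ = (a * e) * (b * b) * a := by rw [hbe]; group
      _ = e * (a * a) := by rw [hb, hae]; group
      _ = e := by rw [ha, mul_one]
  rw [h]

/-- the path `e - a - f - b` -/
theorem pow_five {a b e f : G} (ha : a * a = 1) (hb : b * b = 1) (he : e * e = 1) (hf : f * f = 1)
    (hab : a * b = b * a) (hef : e * f = f * e) (hbe : b * e = e * b) (hae : a * e * a = e * a * e)
    (haf : a * f * a = f * a * f) (hbf : b * f * b = f * b * f) : (a * b * e * f) ^ 5 = 1 := by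
  have q1 : ∀ t : G, e * (e * t) = t := fun t => by rw [← mul_assoc, he, one_mul]
  have q2 : ∀ t : G, a * (a * t) = t := fun t => by rw [← mul_assoc, ha, one_mul]
  have q3 : ∀ t : G, f * (f * t) = t := fun t => by rw [← mul_assoc, hf, one_mul]
  have q4 : ∀ t : G, b * (b * t) = t := fun t => by rw [← mul_assoc, hb, one_mul]
  have c31 : ∀ t : G, f * (e * t) = e * (f * t) := fun t => by rw [← mul_assoc, ← hef, mul_assoc]
  have c41 : ∀ t : G, b * (e * t) = e * (b * t) := fun t => by rw [← mul_assoc, hbe, mul_assoc]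
  have c42 : ∀ t : G, b * (a * t) = a * (b * t) := fun t => by rw [← mul_assoc, ← hab, mul_assoc]
  have b21 : a * (e * a) = e * (a * e) := by rw [← mul_assoc, hae, mul_assoc]
  have b21' : ∀ t : G, a * (e * (a * t)) = e * (a * (e * t)) := fun t => by
    rw [← mul_assoc, ← mul_assoc, hae, mul_assoc, mul_assoc]
  have b32 : f * (a * f) = a * (f * a) := by rw [← mul_assoc, ← haf, mul_assoc]
  have b32' : ∀ t : G, f * (a * (f * t)) = a * (f * (a * t)) := fun t => by
    rw [← mul_assoc, ← mul_assoc, ← haf, mul_assoc, mul_assoc]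
  have b43 : b * (f * b) = f * (b * f) := by rw [← mul_assoc, hbf, mul_assoc]
  have b43' : ∀ t : G, b * (f * (b * t)) = f * (b * (f * t)) := fun t => by
    rw [← mul_assoc, ← mul_assoc, hbf, mul_assoc, mul_assoc]
  have l31 : f * (a * (e * f)) = a * (f * (a * e)) := by rw [hef, b32']
  have l31' : ∀ t : G, f * (a * (e * (f * t))) = a * (f * (a * (e * t))) := fun t => by
    rw [← c31, b32']
  have l42 : b * (f * (a * b)) = f * (b * (f * a)) := by rw [hab, b43']
  have l42' : ∀ t : G, b * (f * (a * (b * t))) = f * (b * (f * (a * t))) := fun t => by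
    rw [← c42, b43']
  have l41 : b * (f * (a * (e * b))) = f * (b * (f * (a * e))) := by rw [← hbe, l42']
  have l41' : ∀ t : G, b * (f * (a * (e * (b * t)))) = f * (b * (f * (a * (e * t)))) := fun t => by
    rw [← c41, l42']
  simp only [pow_succ, pow_zero, one_mul, mul_assoc, q1, q2, q3, q4, c31, c41, c42, b21, b21', b32, b32', b43, b43',
    l31, l31', l42, l42', l41, l41', he, ha, hf, hb, mul_one]

/-- **The product of two products of two commuting 3-transpositions.** -/
theorem pow_sixty {D : Set G} (hsq : ∀ d ∈ D, d * d = 1) (hcl : ∀ (g : G), ∀ d ∈ D, g * d * g⁻¹ ∈ D)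
    (hCB : ∀ d ∈ D, ∀ d' ∈ D, CB d d') {a b e f : G} (haD : a ∈ D) (hbD : b ∈ D) (heD : e ∈ D) (hfD : f ∈ D)
    (hab : a * b = b * a) (hef : e * f = f * e) : (a * b * e * f) ^ 60 = 1 := by
  have ha := hsq a haD
  have hb := hsq b hbD
  have he := hsq e heD
  have hf := hsq f hfD
  have s5 : ∀ x : G, x ^ 5 = 1 → x ^ 60 = 1 := fun x h => by
    calc x ^ 60 = (x ^ 5) ^ 12 := by rw [← pow_mul]
      _ = 1 := by rw [h, one_pow]
  have s6 : ∀ x : G, x ^ 6 = 1 → x ^ 60 = 1 := fun x h => by
    calc x ^ 60 = (x ^ 6) ^ 10 := by rw [← pow_mul]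
      _ = 1 := by rw [h, one_pow]
  have s12 : ∀ x : G, x ^ 12 = 1 → x ^ 60 = 1 := fun x h => by
    calc x ^ 60 = (x ^ 12) ^ 5 := by rw [← pow_mul]
      _ = 1 := by rw [h, one_pow]
  have i_ab : ∀ {u v : G}, u * u = 1 → v * v = 1 → (u * v)⁻¹ = v * u := fun {u v} hu hv => by
    rw [mul_inv_rev, inv_eq_of_mul_eq_one_left hu, inv_eq_of_mul_eq_one_left hv]
  -- the conjugates
  have hconj : ∀ {u v w : G}, u ∈ D → v ∈ D → w ∈ D → u * v * w * (v * u) ∈ D := fun {u v w} hu hv hw => by
    have h1 := hcl (u * v) w hw
    rwa [i_ab (hsq u hu) (hsq v hv)] at h1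
  -- the three cases
  have t12 : ∀ a b e f : G, a ∈ D → b ∈ D → e ∈ D → f ∈ D → a * b = b * a → e * f = f * e →
      ((a * e = e * a ∧ b * e = e * b) ∨ (a * e * a = e * a * e ∧ b * e * b = e * b * e)) →
      ((a * f = f * a ∧ b * f = f * b) ∨ (a * f * a = f * a * f ∧ b * f * b = f * b * f)) →
      (a * b * e * f) ^ 12 = 1 := by
    intro a b e f ha hb he hf hab hef h1 h2
    refine pow_twelve (hsq a ha) (hsq b hb) (hsq e he) (hsq f hf) hab hef rfl rfl ?_ ?_
      (hCB _ (hconj ha hb hf) _ he)
    · rcases h1 with ⟨h3, h4⟩ | ⟨h3, h4⟩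
      · exact comm_of_comm (hsq a ha) (hsq b hb) h3 h4
      · exact comm_of_braid hab h3 h4
    · rcases h2 with ⟨h3, h4⟩ | ⟨h3, h4⟩
      · exact comm_of_comm (hsq a ha) (hsq b hb) h3 h4
      · exact comm_of_braid hab h3 h4
  have t12' : (e * f * a * b) ^ 12 = 1 → (a * b * e * f) ^ 12 = 1 := by
    intro h
    have e1 : a * b * e * f = (a * b) * (e * f * a * b) * (a * b)⁻¹ := by group
    rw [e1, conj_pow, h]
    group
  rcases hCB a haD e heD with ae | ae <;> rcases hCB a haD f hfD with af | af <;>
    rcases hCB b hbD e heD with be | be <;> rcases hCB b hbD f hfD with bf | bf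
  · exact s6 _ (pow_six_of_comm ha hb he hf hab hef (Or.inl ae) (Or.inl bf) af be)
  · exact s6 _ (pow_six_of_comm ha hb he hf hab hef (Or.inl ae) (Or.inr bf) af be)
  · -- `be` only
    have h := pow_six_of_comm ha hb hf he hab hef.symm (Or.inl af) (Or.inr be) ae bf
    have e1 : a * b * e * f = a * b * f * e := by rw [mul_assoc (a * b), hef, ← mul_assoc]
    rw [e1]
    exact s6 _ h
  · -- star at `b`
    refine s12 _ (t12' (t12 e f a b heD hfD haD hbD hef hab (Or.inl ⟨ae.symm, af.symm⟩) (Or.inr ⟨be.symm, bf.symm⟩)))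
  · -- `af` only
    have h := pow_six_of_comm ha hb hf he hab hef.symm (Or.inr af) (Or.inl be) ae bf
    have e1 : a * b * e * f = a * b * f * e := by rw [mul_assoc (a * b), hef, ← mul_assoc]
    rw [e1]
    exact s6 _ h
  · -- star at `f`
    exact s12 _ (t12 a b e f haD hbD heD hfD hab hef (Or.inl ⟨ae, be⟩) (Or.inr ⟨af, bf⟩))
  · -- `af, be`
    have h := pow_six_of_comm ha hb hf he hab hef.symm (Or.inr af) (Or.inr be) ae bf
    have e1 : a * b * e * f = a * b * f * e := by rw [mul_assoc (a * b), hef, ← mul_assoc]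
    rw [e1]
    exact s6 _ h
  · -- missing `ae` : the path `e - b - f - a`
    have h := pow_five hb ha he hf hab.symm hef ae be bf af
    have e1 : a * b * e * f = b * a * e * f := by rw [hab]
    rw [e1]
    exact s5 _ h
  · -- `ae` only
    exact s6 _ (pow_six_of_comm ha hb he hf hab hef (Or.inr ae) (Or.inl bf) af be)
  · -- `ae, bf`
    exact s6 _ (pow_six_of_comm ha hb he hf hab hef (Or.inr ae) (Or.inr bf) af be)
  · -- star at `e`
    exact s12 _ (t12 a b e f haD hbD heD hfD hab hef (Or.inr ⟨ae, be⟩) (Or.inl ⟨af, bf⟩))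
  · -- missing `af` : the path `f - b - e - a`
    have h := pow_five hb ha hf he hab.symm hef.symm af bf be ae
    have e1 : a * b * e * f = b * a * f * e := by rw [mul_assoc (a * b), hef, hab, ← mul_assoc]
    rw [e1]
    exact s5 _ h
  · -- star at `a`
    refine s12 _ (t12' (t12 e f a b heD hfD haD hbD hef hab (Or.inr ⟨ae.symm, af.symm⟩) (Or.inl ⟨be.symm, bf.symm⟩)))
  · -- missing `be` : the path `e - a - f - b`
    exact s5 _ (pow_five ha hb he hf hab hef be ae af bf)
  · -- missing `bf` : the path `f - a - e - b`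
    have h := pow_five ha hb hf he hab hef.symm bf af ae be
    have e1 : a * b * e * f = a * b * f * e := by rw [mul_assoc (a * b), hef, ← mul_assoc]
    rw [e1]
    exact s5 _ h
  · exact s12 _ (t12 a b e f haD hbD heD hfD hab hef (Or.inr ⟨ae, be⟩) (Or.inr ⟨af, bf⟩))

end

end Cfsg.Agent.H841.PB
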